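import Groth.Agent.InjHullLib.Basic
import Groth.Agent.Matlis6.Basic
import Mathlib.RingTheory.Ideal.Quotient.Basic
import Mathlib.LinearAlgebra.Basis.VectorSpace

/-! Injective power torsion modules over a Noetherian local ring. -/

set_option autoImplicit false
set_option linter.style.haveILetI false

universe u

open IsLocalRing

namespace Groth.Agent.CAlgH3.TorInj

variable {R : Type u} [CommRing R] [IsNoetherianRing R] [IsLocalRing R]
variable {M : Type u} [AddCommGroup M] [Module R M]

/-- A power torsion module is injective as soon as maps from the maximal ideal extend. -/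
theorem injective_of_extend (hM : LocCoh.IsPowerTorsion (maximalIdeal R) M)
    (hext : ∀ φ : ↥(maximalIdeal R) →ₗ[R] M, ∃ z : M, ∀ r : ↥(maximalIdeal R), φ r = (r : R) • z) :
    Module.Injective R M := by
  refine Module.Baer.injective fun J g => ?_
  let S : Set (Ideal R) := {K | J ≤ K ∧ ∃ g' : K →ₗ[R] M, ∀ (a : R) (ha : a ∈ J) (hK : a ∈ K), g' ⟨a, hK⟩ = g ⟨a, ha⟩}
  -- extend by zero over a power of the maximal ideal
  obtain ⟨k, hk⟩ := InjHullLib.exists_pow_inf_le_ker (maximalIdeal R) J hM g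
  have hS : J ⊔ maximalIdeal R ^ k ∈ S := by
    refine ⟨le_sup_left, ?_⟩
    choose a ha b hb hab using fun x : ↥(J ⊔ maximalIdeal R ^ k) => Submodule.mem_sup.1 x.2
    have hwd : ∀ (x : ↥(J ⊔ maximalIdeal R ^ k)) (a' : R) (ha' : a' ∈ J) (b' : R), b' ∈ maximalIdeal R ^ k →
        a' + b' = x → g ⟨a x, ha x⟩ = g ⟨a', ha'⟩ := by
      intro x a' ha' b' hb' e
      rw [← sub_eq_zero, ← map_sub]
      refine hk _ ?_
      show a x - a' ∈ maximalIdeal R ^ k
      rw [show a x - a' = b' - b x by linear_combination hab x - e]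
      exact sub_mem hb' (hb x)
    refine ⟨{ toFun := fun x => g ⟨a x, ha x⟩, map_add' := fun x y => ?_, map_smul' := fun r x => ?_ }, ?_⟩
    · rw [hwd (x + y) (a x + a y) (add_mem (ha x) (ha y)) (b x + b y) (add_mem (hb x) (hb y))
        (by rw [Submodule.coe_add, ← hab x, ← hab y]; ring), ← map_add]
      rfl
    · rw [hwd (r • x) (r * a x) (J.mul_mem_left r (ha x)) (r * b x) (Ideal.mul_mem_left _ r (hb x))
        (by rw [SetLike.val_smul, smul_eq_mul, ← hab x]; ring), RingHom.id_apply, ← map_smul]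
      rfl
    · intro c hc hK
      exact hwd ⟨c, hK⟩ c hc 0 (zero_mem _) (add_zero c)
  obtain ⟨K, ⟨⟨hJK, g', hg'⟩, hmk⟩, hmax⟩ := (wellFounded_gt (α := Ideal R)).has_min
    {K ∈ S | maximalIdeal R ^ k ≤ K} ⟨_, hS, le_sup_right⟩
  have htop : K = ⊤ := by
    by_contra hne
    -- an element outside `K` sent into `K` by the maximal ideal
    obtain ⟨x, hx, hxm⟩ : ∃ x, x ∉ K ∧ ∀ r ∈ maximalIdeal R, r * x ∈ K := by
      classical
      have hex : ∃ j, maximalIdeal R ^ j ≤ K := ⟨k, hmk⟩
      have h0 : Nat.find hex ≠ 0 := fun e => hne (by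
        have := Nat.find_spec hex
        rw [e, pow_zero, Ideal.one_eq_top] at this
        exact top_le_iff.1 this)
      obtain ⟨j, hj⟩ := Nat.exists_eq_succ_of_ne_zero h0
      have hnle := Nat.find_min hex (show j < Nat.find hex by omega)
      obtain ⟨x, hx, hxK⟩ := SetLike.not_le_iff_exists.1 hnle
      refine ⟨x, hxK, fun r hr => ?_⟩
      have := Nat.find_spec hex
      rw [hj, pow_succ'] at this
      exact this (Ideal.mul_mem_mul hr hx)
    obtain ⟨z, hz⟩ := hext
      { toFun := fun r => g' ⟨r * x, hxm r r.2⟩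
        map_add' := fun r s => by rw [← map_add]; congr 1; exact Subtype.ext (add_mul _ _ _)
        map_smul' := fun c r => by rw [RingHom.id_apply, ← map_smul]; congr 1; exact Subtype.ext (mul_assoc _ _ _) }
    have hker : ∀ (c : R) (hc : c * x ∈ K), g' ⟨c * x, hc⟩ = c • z := by
      intro c hc
      by_cases hu : IsUnit c
      · exact absurd ((Ideal.unit_mul_mem_iff_mem K hu).1 hc) hx
      · exact hz ⟨c, (IsLocalRing.mem_maximalIdeal c).2 hu⟩
    choose p hp c hc hpc using fun y : ↥(K ⊔ Ideal.span {x}) => Submodule.mem_sup.1 y.2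
    choose c' hc' using fun y => Ideal.mem_span_singleton'.1 (hc y)
    have hwd : ∀ (y : ↥(K ⊔ Ideal.span {x})) (p' : R) (hp' : p' ∈ K) (d : R), p' + d * x = y →
        g' ⟨p y, hp y⟩ + c' y • z = g' ⟨p', hp'⟩ + d • z := by
      intro y p' hp' d e
      have e2 : (d - c' y) * x = p y - p' := by
        have := hpc y
        rw [← hc' y] at this
        linear_combination e - this
      have hm : (d - c' y) * x ∈ K := e2 ▸ sub_mem (hp y) hp'
      have h3 := hker _ hm
      rw [show (⟨(d - c' y) * x, hm⟩ : K) = ⟨p y, hp y⟩ - ⟨p', hp'⟩ from Subtype.ext e2, map_sub, sub_smul] at h3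
      linear_combination (norm := module) h3
    have hS' : K ⊔ Ideal.span {x} ∈ {K ∈ S | maximalIdeal R ^ k ≤ K} := by
      refine ⟨⟨hJK.trans le_sup_left,
        { toFun := fun y => g' ⟨p y, hp y⟩ + c' y • z, map_add' := fun y w => ?_, map_smul' := fun r y => ?_ },
        fun a ha hK' => ?_⟩, hmk.trans le_sup_left⟩
      · rw [hwd (y + w) (p y + p w) (add_mem (hp y) (hp w)) (c' y + c' w)
          (by rw [Submodule.coe_add, ← hpc y, ← hpc w, ← hc' y, ← hc' w]; ring),
          show (⟨p y + p w, add_mem (hp y) (hp w)⟩ : K) = ⟨p y, hp y⟩ + ⟨p w, hp w⟩ from rfl, map_add, add_smul]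
        abel
      · rw [hwd (r • y) (r * p y) (K.mul_mem_left r (hp y)) (r * c' y)
          (by rw [SetLike.val_smul, smul_eq_mul, ← hpc y, ← hc' y]; ring),
          show (⟨r * p y, K.mul_mem_left r (hp y)⟩ : K) = r • ⟨p y, hp y⟩ from rfl, map_smul, RingHom.id_apply,
          smul_add, smul_smul]
      · show g' ⟨p ⟨a, hK'⟩, _⟩ + c' ⟨a, hK'⟩ • z = _
        rw [hwd ⟨a, hK'⟩ a (hJK ha) 0 (by rw [zero_mul, add_zero]), zero_smul, add_zero]
        exact hg' a ha (hJK ha)
    have heq : K = K ⊔ Ideal.span {x} := le_antisymm le_sup_left (not_not.1 fun hlt => hmax _ hS' (lt_of_le_not_ge le_sup_left hlt))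
    exact hx (heq.ge (Ideal.mem_sup_right (Ideal.mem_span_singleton_self x)))
  subst htop
  exact ⟨g'.comp (LinearMap.codRestrict ⊤ LinearMap.id fun _ => trivial), fun a ha => hg' a ha trivial⟩

/-- A power torsion injective module is a direct sum of copies of the hull of the residue field. -/
theorem exists_iso_finsupp {E : Type u} [AddCommGroup E] [Module R E] {f : ResidueField R →ₗ[R] E}
    (hf : InjHull.IsInjectiveHull f) (hM : LocCoh.IsPowerTorsion (maximalIdeal R) M) (hinj : Module.Injective R M) :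
    ∃ ι : Type u, Nonempty (M ≃ₗ[R] (ι →₀ E)) := by
  classical
  letI : Field (R ⧸ maximalIdeal R) := Ideal.Quotient.field _
  let soc : Submodule R M := Submodule.torsionBySet R M (maximalIdeal R : Set R)
  have hsoc : ∀ m : M, m ∈ soc ↔ ∀ a ∈ maximalIdeal R, a • m = 0 := fun m =>
    ⟨fun h a ha => (Submodule.mem_torsionBySet_iff _ _).1 h ⟨a, ha⟩,
      fun h => (Submodule.mem_torsionBySet_iff _ _).2 fun a => h a a.2⟩
  have hexsoc : ∀ m : M, m ≠ 0 → ∃ r : R, r • m ≠ 0 ∧ r • m ∈ soc := by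
    intro m hm
    have hex : ∃ n, ∀ a ∈ maximalIdeal R ^ n, a • m = 0 := hM m
    have h0 : Nat.find hex ≠ 0 := fun e => hm (by
      have := Nat.find_spec hex
      rw [e, pow_zero, Ideal.one_eq_top] at this
      simpa using this 1 trivial)
    obtain ⟨j, hj⟩ := Nat.exists_eq_succ_of_ne_zero h0
    have hnle := Nat.find_min hex (show j < Nat.find hex by omega)
    push Not at hnle
    obtain ⟨r, hr, hr0⟩ := hnle
    refine ⟨r, hr0, (hsoc _).2 fun a ha => ?_⟩
    have := Nat.find_spec hex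
    rw [hj, pow_succ'] at this
    rw [smul_smul]
    exact this _ (Ideal.mul_mem_mul ha hr)
  let b := Module.Basis.ofVectorSpace (R ⧸ maximalIdeal R) ↥soc
  let ι := Module.Basis.ofVectorSpaceIndex (R ⧸ maximalIdeal R) ↥soc
  have hE := Matlis6.of_isInjectiveHull_residueField hf
  have hEinj := hE.inj
  let Φ : (ι →₀ (R ⧸ maximalIdeal R)) →ₗ[R] M :=
    soc.subtype.comp ((b.repr.symm.restrictScalars R).toLinearMap)
  have hΦ : Function.Injective Φ := Subtype.val_injective.comp b.repr.symm.injective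
  let f' : (R ⧸ maximalIdeal R) →ₗ[R] E := f
  let inc : (ι →₀ (R ⧸ maximalIdeal R)) →ₗ[R] (ι →₀ E) := Finsupp.mapRange.linearMap f'
  have hinc : Function.Injective inc := Finsupp.mapRange_injective f' (map_zero _) hf.injective
  obtain ⟨Ψ, hΨ⟩ := hinj.out inc hinc Φ
  have hfix : ∀ s : Finset ι, ∀ x : ι →₀ E, x ≠ 0 →
      ∃ r : R, r • x ≠ 0 ∧ ∀ i ∈ s, (r • x) i ∈ LinearMap.range f' := by
    intro s
    induction s using Finset.induction with
    | empty => exact fun x hx => ⟨1, by rwa [one_smul], fun i hi => absurd hi (Finset.notMem_empty i)⟩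
    | @insert i s hi ih =>
      intro x hx
      obtain ⟨r, hr, hrs⟩ := ih x hx
      by_cases hmem : (r • x) i ∈ LinearMap.range f'
      · exact ⟨r, hr, fun j hj => (Finset.mem_insert.1 hj).elim (fun e => e ▸ hmem) (hrs j)⟩
      have hne0 : (r • x) i ≠ 0 := fun e => hmem (e ▸ zero_mem _)
      have hbot : R ∙ ((r • x) i) ≠ ⊥ := fun e => hne0 (Submodule.span_singleton_eq_bot.1 e)
      obtain ⟨w, ⟨hw1, hw2⟩, hw0⟩ := (Submodule.ne_bot_iff _).1 (hf.essential _ hbot)
      obtain ⟨c, rfl⟩ := Submodule.mem_span_singleton.1 hw1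
      refine ⟨c * r, fun e => hw0 ?_, fun j hj => ?_⟩
      · rw [← Finsupp.smul_apply, smul_smul, e, Finsupp.zero_apply]
      · rw [← smul_smul, Finsupp.smul_apply]
        rcases Finset.mem_insert.1 hj with rfl | hj
        · exact hw2
        · exact Submodule.smul_mem _ _ (hrs j hj)
  have hΨinj : Function.Injective Ψ := by
    rw [← LinearMap.ker_eq_bot]
    by_contra hne
    obtain ⟨x, hx, hx0⟩ := (Submodule.ne_bot_iff _).1 hne
    obtain ⟨r, hr, hrs⟩ := hfix x.support x hx0
    have hmem : ∀ i, ∃ y, f' y = (r • x) i := fun i => by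
      by_cases hi : i ∈ x.support
      · exact hrs i hi
      · exact ⟨0, by rw [map_zero, Finsupp.smul_apply, Finsupp.notMem_support_iff.1 hi, smul_zero]⟩
    choose y hy using hmem
    have hy0 : ∀ i, y i ≠ 0 → i ∈ x.support := fun i hi => by
      by_contra hc
      refine hi (hf.injective ?_)
      show f' (y i) = f' 0
      rw [hy, map_zero, Finsupp.smul_apply, Finsupp.notMem_support_iff.1 hc, smul_zero]
    let w : ι →₀ (R ⧸ maximalIdeal R) := Finsupp.onFinset x.support y hy0
    have hw : inc w = r • x := Finsupp.ext fun i => by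
      show f' (w i) = _
      rw [Finsupp.onFinset_apply, hy]
    have h1 : Φ w = 0 := by
      rw [← hΨ w, hw, map_smul, LinearMap.mem_ker.1 hx, smul_zero]
    exact hr (by rw [← hw, hΦ (h1.trans (map_zero Φ).symm), map_zero])
  have hfinj : Module.Injective R (ι →₀ E) :=
    InjHullLib.injective_of_equiv (finsuppLEquivDirectSum R E ι).symm
      (InjHullLib.injective_directSum (fun _ : ι => E) fun _ => hEinj)
  obtain ⟨Q, hQ⟩ := InjHullLib.exists_isCompl_range hfinj Ψ hΨinj
  have hQbot : Q = ⊥ := by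
    by_contra hne
    obtain ⟨m, hm, hm0⟩ := (Submodule.ne_bot_iff _).1 hne
    obtain ⟨r, hr0, hrs⟩ := hexsoc m hm0
    refine hr0 (Submodule.disjoint_def.1 hQ.disjoint _ ⟨inc (b.repr ⟨r • m, hrs⟩), ?_⟩ (Q.smul_mem r hm))
    rw [hΨ]
    show (soc.subtype) (b.repr.symm (b.repr ⟨r • m, hrs⟩)) = r • m
    rw [b.repr.symm_apply_apply]; rfl
  have htop : LinearMap.range Ψ = ⊤ := by
    have := hQ.sup_eq_top
    rwa [hQbot, sup_bot_eq] at this
  exact ⟨ι, ⟨(LinearEquiv.ofBijective Ψ ⟨hΨinj, LinearMap.range_eq_top.1 htop⟩).symm⟩⟩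

end Groth.Agent.CAlgH3.TorInj
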