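import Groth.Agent.CAlgH3.TorInj.Basic

/-! Extending maps from the maximal ideal by solving `xᵢ z = aᵢ` one generator at a time. -/

set_option autoImplicit false

universe u

open IsLocalRing

namespace Groth.Agent.CAlgH3.TorInj

variable {R : Type u} [CommRing R] [IsLocalRing R] {M : Type u} [AddCommGroup M] [Module R M]

/-- If each generator is surjective on the part killed by the earlier ones, maps from the maximal ideal extend. -/
theorem extend_of_divisible {d : ℕ} (x : Fin d → R) (hx : Ideal.span (Set.range x) = maximalIdeal R)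
    (φ : ↥(maximalIdeal R) →ₗ[R] M)
    (hdiv : ∀ (i : Fin d) (z : M), (∀ j < i, x j • z = 0) →
      ∃ w : M, (∀ j < i, x j • w = 0) ∧ x i • w = z) :
    ∃ z : M, ∀ r : ↥(maximalIdeal R), φ r = (r : R) • z := by
  have hmem : ∀ i, x i ∈ maximalIdeal R := fun i => hx ▸ Ideal.subset_span ⟨i, rfl⟩
  have hcomm : ∀ i j, x i • φ ⟨x j, hmem j⟩ = x j • φ ⟨x i, hmem i⟩ := fun i j => by
    rw [← map_smul, ← map_smul]
    exact congrArg φ (Subtype.ext (mul_comm _ _))
  have key : ∀ k : ℕ, k ≤ d → ∃ z : M, ∀ j : Fin d, (j : ℕ) < k → x j • z = φ ⟨x j, hmem j⟩ := by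
    intro k
    induction k with
    | zero => exact fun _ => ⟨0, fun j hj => absurd hj (Nat.not_lt_zero _)⟩
    | succ k ih =>
      intro hk
      obtain ⟨z, hz⟩ := ih (by omega)
      let i : Fin d := ⟨k, hk⟩
      obtain ⟨w, hw, hwi⟩ := hdiv i (φ ⟨x i, hmem i⟩ - x i • z) fun j hj => by
        rw [smul_sub, smul_smul, mul_comm, ← smul_smul, hz j hj, hcomm j i, sub_self]
      refine ⟨z + w, fun j hj => ?_⟩
      rcases Nat.lt_or_ge (j : ℕ) k with h | h
      · rw [smul_add, hz j h, hw j h, add_zero]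
      · rw [show j = i from Fin.ext (by show (j : ℕ) = k; omega), smul_add, hwi, add_sub_cancel]
  obtain ⟨z, hz⟩ := key d le_rfl
  refine ⟨z, fun r => ?_⟩
  obtain ⟨r, hr⟩ := r
  have hr' : r ∈ Ideal.span (Set.range x) := hx.symm ▸ hr
  obtain ⟨c, hc⟩ := Ideal.mem_span_range_iff_exists_fun.1 hr'
  have he : (⟨r, hr⟩ : ↥(maximalIdeal R)) = ∑ i, c i • (⟨x i, hmem i⟩ : ↥(maximalIdeal R)) :=
    Subtype.ext (by simp [← hc, Submodule.coe_sum])
  show φ _ = r • z
  rw [he, map_sum, ← hc, Finset.sum_smul]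
  refine Finset.sum_congr rfl fun i _ => ?_
  rw [map_smul, ← hz i i.2, smul_smul]

end Groth.Agent.CAlgH3.TorInj
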