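import Groth.Agent.CAlgH3.Kunz
import Groth.Agent.CAlgH3.TorInj.Recursion
import Mathlib.LinearAlgebra.Finsupp.Defs

/-! Maps from the maximal ideal into free modules over `R/(x₁^q, …, x_d^q)` extend. -/

set_option autoImplicit false

universe u

open IsLocalRing

namespace Groth.Agent.CAlgH3.TorInj

open Groth.Agent.CAlgH3.Kunz

variable {R : Type u} [CommRing R] {d : ℕ}

/-- The mixed system. -/
def mixed (x : Fin d → R) (q : ℕ) (T : Finset (Fin d)) : Fin d → R := fun j => if j ∈ T then x j else x j ^ q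

theorem mixed_update (x : Fin d → R) (q : ℕ) {T : Finset (Fin d)} {k : Fin d} :
    Function.update (mixed x q T) k (x k) = mixed x q (insert k T) := by
  funext j
  by_cases hj : j = k
  · subst hj
    simp [mixed]
  · simp [mixed, hj]

/-- Dividing by a product of powers. -/
theorem mixed_spec (x : Fin d → R) (q : ℕ) (hy : Indep fun j => x j ^ (q + 1)) (T : Finset (Fin d)) :
    Indep (mixed x (q + 1) T) ∧
      ∀ u : R, u * ∏ j ∈ T, x j ^ q ∈ Ideal.span (Set.range fun j => x j ^ (q + 1)) →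
        u ∈ Ideal.span (Set.range (mixed x (q + 1) T)) := by
  classical
  induction T using Finset.induction with
  | empty =>
    have e : mixed x (q + 1) ∅ = fun j => x j ^ (q + 1) := by funext j; simp [mixed]
    rw [e]
    exact ⟨hy, fun u hu => by simpa using hu⟩
  | @insert k T hk ih =>
    have e : mixed x (q + 1) T k = x k ^ q * x k := by simp [mixed, hk, pow_succ]
    refine ⟨?_, fun u hu => ?_⟩
    · rw [← mixed_update]
      exact ih.1.update k (x k) (x k ^ q) (e.trans (mul_comm _ _))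
    · rw [Finset.prod_insert hk, ← mul_assoc] at hu
      have h1 := ih.2 _ hu
      rw [mul_comm u] at h1
      rw [← mixed_update]
      exact mem_of_mul_mem ih.1 k _ _ e u h1

variable (x : Fin d → R) (q : ℕ)

theorem mul_mem_pows {i : Fin d} {T : Finset (Fin d)} (hi : i ∈ T) :
    x i * ∏ j ∈ T, x j ^ q ∈ Ideal.span (Set.range fun j => x j ^ (q + 1)) := by
  rw [← Finset.mul_prod_erase T _ hi, ← mul_assoc, ← pow_succ']
  exact Ideal.mul_mem_right _ _ (Ideal.subset_span ⟨i, rfl⟩)

theorem annihilated_by_initial (hy : Indep fun j => x j ^ (q + 1)) : ∀ (k : ℕ), k ≤ d → ∀ u : R,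
    (∀ j : Fin d, (j : ℕ) < k → x j * u ∈ Ideal.span (Set.range fun j => x j ^ (q + 1))) →
      ∃ c : R, u - c * ∏ j ∈ Finset.univ.filter (fun j : Fin d => (j : ℕ) < k), x j ^ q ∈
        Ideal.span (Set.range fun j => x j ^ (q + 1)) := by
  classical
  intro k
  induction k with
  | zero => exact fun _ u _ => ⟨u, by simp⟩
  | succ k ih =>
    intro hk u hu
    let i : Fin d := ⟨k, hk⟩
    let T := Finset.univ.filter fun j : Fin d => (j : ℕ) < k
    have hiT : i ∉ T := by simp [T, i]
    have hins : Finset.univ.filter (fun j : Fin d => (j : ℕ) < k + 1) = insert i T := by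
      ext j
      simp only [T, Finset.mem_filter, Finset.mem_univ, true_and, Finset.mem_insert, i, Fin.ext_iff]
      omega
    obtain ⟨c, hc⟩ := ih (by omega) u fun j hj => hu j (by omega)
    have h1 : x i * c * ∏ j ∈ T, x j ^ q ∈ Ideal.span (Set.range fun j => x j ^ (q + 1)) := by
      have h2 := sub_mem (hu i (by show k < k + 1; omega)) (Ideal.mul_mem_left _ (x i) hc)
      rw [mul_sub, sub_sub_cancel, ← mul_assoc] at h2
      exact h2
    obtain ⟨hI, hspec⟩ := mixed_spec x q hy T
    have h2 := mem_of_mul_mem hI i (x i) (x i ^ q) (by simp [mixed, hiT, pow_succ']) c (hspec _ h1)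
    obtain ⟨a, ha⟩ := Ideal.mem_span_range_iff_exists_fun.1 h2
    refine ⟨a i, ?_⟩
    rw [hins, Finset.prod_insert hiT]
    rw [show u - a i * (x i ^ q * ∏ j ∈ T, x j ^ q) =
      (u - c * ∏ j ∈ T, x j ^ q) + (c - a i * x i ^ q) * ∏ j ∈ T, x j ^ q by ring]
    refine add_mem hc ?_
    rw [← ha, ← Finset.add_sum_erase _ _ (Finset.mem_univ i), Function.update_self, add_sub_cancel_left,
      Finset.sum_mul]
    refine Ideal.sum_mem _ fun j hj => ?_
    rw [Function.update_of_ne (Finset.ne_of_mem_erase hj), mul_assoc]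
    refine Ideal.mul_mem_left _ _ ?_
    by_cases hjT : j ∈ T
    · simp only [mixed, if_pos hjT]
      exact mul_mem_pows x q hjT
    · simp only [mixed, if_neg hjT]
      exact Ideal.mul_mem_right _ _ (Ideal.subset_span ⟨j, rfl⟩)

/-- Divisibility inside `R / (x^(q+1))`. -/
theorem divisible_step (hy : Indep fun j => x j ^ (q + 1)) (i : Fin d) (u : R)
    (hu : ∀ j < i, x j * u ∈ Ideal.span (Set.range fun j => x j ^ (q + 1)))
    (hui : x i ^ q * u ∈ Ideal.span (Set.range fun j => x j ^ (q + 1))) :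
    ∃ w : R, (∀ j < i, x j * w ∈ Ideal.span (Set.range fun j => x j ^ (q + 1))) ∧
      x i * w - u ∈ Ideal.span (Set.range fun j => x j ^ (q + 1)) := by
  classical
  let T := Finset.univ.filter fun j : Fin d => (j : ℕ) < i
  have hiT : i ∉ T := by simp [T]
  obtain ⟨c, hc⟩ := annihilated_by_initial x q hy i i.2.le u hu
  have h1 : c * ∏ j ∈ insert i T, x j ^ q ∈ Ideal.span (Set.range fun j => x j ^ (q + 1)) := by
    rw [Finset.prod_insert hiT, show c * (x i ^ q * ∏ j ∈ T, x j ^ q) =
      x i ^ q * u - x i ^ q * (u - c * ∏ j ∈ T, x j ^ q) by ring]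
    exact sub_mem hui (Ideal.mul_mem_left _ _ hc)
  obtain ⟨a, ha⟩ := Ideal.mem_span_range_iff_exists_fun.1 ((mixed_spec x q hy (insert i T)).2 c h1)
  refine ⟨a i * ∏ j ∈ T, x j ^ q, fun j hj => ?_, ?_⟩
  · rw [mul_left_comm]
    exact Ideal.mul_mem_left _ _ (mul_mem_pows x q (by simpa [T] using hj))
  · have hsum : c * ∏ j ∈ T, x j ^ q = ∑ j, a j * (mixed x (q + 1) (insert i T) j * ∏ l ∈ T, x l ^ q) := by
      rw [← ha, Finset.sum_mul]
      exact Finset.sum_congr rfl fun j _ => mul_assoc _ _ _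
    rw [show x i * (a i * ∏ j ∈ T, x j ^ q) - u =
      (a i * (mixed x (q + 1) (insert i T) i * ∏ l ∈ T, x l ^ q) - c * ∏ j ∈ T, x j ^ q) -
        (u - c * ∏ j ∈ T, x j ^ q) by simp [mixed]; ring]
    refine sub_mem ?_ hc
    rw [hsum, ← Finset.add_sum_erase _ _ (Finset.mem_univ i), sub_add_cancel_left]
    refine neg_mem (Ideal.sum_mem _ fun j hj => Ideal.mul_mem_left _ _ ?_)
    by_cases hjT : j ∈ T
    · simp only [mixed, if_pos (Finset.mem_insert_of_mem hjT)]
      exact mul_mem_pows x q hjT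
    · have hne := Finset.ne_of_mem_erase hj
      simp only [mixed, Finset.mem_insert, hne, hjT, or_self, if_false]
      exact Ideal.mul_mem_right _ _ (Ideal.subset_span ⟨j, rfl⟩)

/-- Maps from the maximal ideal to a free `R/(x^(q+1))`-module vanishing on that ideal extend. -/
theorem extend_quotient [IsLocalRing R] (hx : Ideal.span (Set.range x) = maximalIdeal R)
    (hy : Indep fun j => x j ^ (q + 1)) {b : Ideal R} (hb : b = Ideal.span (Set.range fun j => x j ^ (q + 1)))
    {κ : Type u} (φ : ↥(maximalIdeal R) →ₗ[R] (κ →₀ R ⧸ b)) (hφ : ∀ r : ↥(maximalIdeal R), (r : R) ∈ b → φ r = 0) :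
    ∃ z : κ →₀ R ⧸ b, ∀ r : ↥(maximalIdeal R), φ r = (r : R) • z := by
  classical
  subst hb
  have hmem : ∀ i, x i ∈ maximalIdeal R := fun i => hx ▸ Ideal.subset_span ⟨i, rfl⟩
  have hcomm : ∀ i j, x i • φ ⟨x j, hmem j⟩ = x j • φ ⟨x i, hmem i⟩ := fun i j => by
    rw [← map_smul, ← map_smul]
    exact congrArg φ (Subtype.ext (mul_comm _ _))
  have hkill : ∀ i (z : κ →₀ R ⧸ Ideal.span (Set.range fun j => x j ^ (q + 1))), x i ^ (q + 1) • z = 0 :=
    fun i z => Finsupp.ext fun l => by
      obtain ⟨u, hu⟩ := Ideal.Quotient.mk_surjective (z l)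
      rw [Finsupp.smul_apply, ← hu, Finsupp.zero_apply]
      exact Ideal.Quotient.eq_zero_iff_mem.2 (Ideal.mul_mem_right _ _ (Ideal.subset_span ⟨i, rfl⟩))
  have hdiv : ∀ (i : Fin d) (z : κ →₀ R ⧸ Ideal.span (Set.range fun j => x j ^ (q + 1))),
      (∀ j < i, x j • z = 0) → x i ^ q • z = 0 →
        ∃ w, (∀ j < i, x j • w = 0) ∧ x i • w = z := by
    intro i z hz hzq
    choose u hu using fun l => Ideal.Quotient.mk_surjective (z l)
    have h1 : ∀ (r : R) (l : κ), r • z = 0 → r * u l ∈ Ideal.span (Set.range fun j => x j ^ (q + 1)) := by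
      intro r l h
      have := DFunLike.congr_fun h l
      rw [Finsupp.smul_apply, Finsupp.zero_apply, ← hu l] at this
      exact Ideal.Quotient.eq_zero_iff_mem.1 this
    choose w hw hwi using fun l => divisible_step x q hy i (u l) (fun j hj => h1 _ l (hz j hj)) (h1 _ l hzq)
    refine ⟨Finsupp.onFinset z.support (fun l => if l ∈ z.support then Ideal.Quotient.mk _ (w l) else 0)
      (fun l hl => by by_contra h; exact hl (if_neg h)), fun j hj => Finsupp.ext fun l => ?_, Finsupp.ext fun l => ?_⟩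
    · rw [Finsupp.smul_apply, Finsupp.onFinset_apply, Finsupp.zero_apply]
      split_ifs
      · exact Ideal.Quotient.eq_zero_iff_mem.2 (hw l j hj)
      · rw [smul_zero]
    · rw [Finsupp.smul_apply, Finsupp.onFinset_apply]
      split_ifs with h
      · rw [← hu l]
        exact Ideal.Quotient.eq.2 (hwi l)
      · rw [smul_zero, Finsupp.notMem_support_iff.1 h]
  have key : ∀ k : ℕ, k ≤ d → ∃ z, ∀ j : Fin d, (j : ℕ) < k → x j • z = φ ⟨x j, hmem j⟩ := by
    intro k
    induction k with
    | zero => exact fun _ => ⟨0, fun j hj => absurd hj (Nat.not_lt_zero _)⟩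
    | succ k ih =>
      intro hk
      obtain ⟨z, hz⟩ := ih (by omega)
      let i : Fin d := ⟨k, hk⟩
      have h0 : x i ^ q • φ ⟨x i, hmem i⟩ = 0 := by
        rw [← map_smul]
        refine hφ _ ?_
        show x i ^ q * x i ∈ _
        rw [← pow_succ]
        exact Ideal.subset_span ⟨i, rfl⟩
      obtain ⟨w, hw, hwi⟩ := hdiv i (φ ⟨x i, hmem i⟩ - x i • z) (fun j hj => by
        rw [smul_sub, smul_smul, mul_comm, ← smul_smul, hz j hj, hcomm j i, sub_self])
        (by rw [smul_sub, smul_smul, ← pow_succ, hkill, h0, sub_zero])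
      refine ⟨z + w, fun j hj => ?_⟩
      rcases Nat.lt_or_ge (j : ℕ) k with h | h
      · rw [smul_add, hz j h, hw j h, add_zero]
      · rw [show j = i from Fin.ext (by show (j : ℕ) = k; omega), smul_add, hwi, add_sub_cancel]
  obtain ⟨z, hz⟩ := key d le_rfl
  refine ⟨z, fun r => ?_⟩
  obtain ⟨r, hr⟩ := r
  obtain ⟨c, hc⟩ := Ideal.mem_span_range_iff_exists_fun.1 (hx.symm ▸ hr : r ∈ Ideal.span (Set.range x))
  have he : (⟨r, hr⟩ : ↥(maximalIdeal R)) = ∑ i, c i • (⟨x i, hmem i⟩ : ↥(maximalIdeal R)) :=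
    Subtype.ext (by simp [← hc, Submodule.coe_sum])
  show φ _ = r • z
  rw [he, map_sum, ← hc, Finset.sum_smul]
  refine Finset.sum_congr rfl fun i _ => ?_
  rw [map_smul, ← hz i i.2, smul_smul]

end Groth.Agent.CAlgH3.TorInj
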