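import Groth.Agent.CAlgH3.TorInj.Basic
import Mathlib.RingTheory.TensorProduct.Quotient
import Mathlib.RingTheory.Flat.Basic
import Mathlib.LinearAlgebra.DirectSum.Finsupp
import Mathlib.Algebra.Category.ModuleCat.ChangeOfRings
import Mathlib.RingTheory.RingHom.Flat

/-! Frobenius moves free `M[b]` to free `M[b^[p]]`. -/

set_option autoImplicit false
set_option linter.style.haveILetI false

universe u

open CategoryTheory TensorProduct

namespace Groth.Agent.CAlgH3.TorInj

/-- The part of `M` killed by `b` is free over `R/b`. -/
def TorsionFreeOver {R : Type u} [CommRing R] (b : Ideal R) (M : Type u) [AddCommGroup M] [Module R M] : Prop :=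
  ∃ (κ : Type u) (v : (κ →₀ R ⧸ b) →ₗ[R] M), Function.Injective v ∧
    LinearMap.range v = Submodule.torsionBySet R M (b : Set R)

theorem torsionFreeOver_congr {R : Type u} [CommRing R] {b : Ideal R} {M N : Type u} [AddCommGroup M] [Module R M]
    [AddCommGroup N] [Module R N] (e : M ≃ₗ[R] N) (h : TorsionFreeOver b M) : TorsionFreeOver b N := by
  obtain ⟨κ, v, hv, hr⟩ := h
  refine ⟨κ, e.toLinearMap ∘ₗ v, e.injective.comp hv, ?_⟩
  ext y
  rw [LinearMap.range_comp, Submodule.mem_map, hr]
  simp only [Submodule.mem_torsionBySet_iff]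
  constructor
  · rintro ⟨m, hm, rfl⟩ a
    show (a : R) • e m = 0
    rw [← map_smul, hm a, map_zero]
  · intro h
    refine ⟨e.symm y, fun a => ?_, e.apply_symm_apply y⟩
    rw [← map_smul, h a, map_zero]

theorem torsionFreeOver_baseChange {A S : Type u} [CommRing A] [CommRing S] [Algebra A S] [Module.Flat A S]
    {M : Type u} [AddCommGroup M] [Module A M] {b : Ideal A} (hb : b.FG) (h : TorsionFreeOver b M) :
    TorsionFreeOver (b.map (algebraMap A S)) (S ⊗[A] M) := by
  classical
  obtain ⟨κ, v, hv, hr⟩ := h
  obtain ⟨G, hG⟩ := hb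
  let g : M →ₗ[A] (↥(G : Set A) → M) := LinearMap.pi fun i => (i : A) • LinearMap.id
  have hex : Function.Exact v g := by
    intro m
    rw [← LinearMap.coe_range, hr, SetLike.mem_coe, Submodule.mem_torsionBySet_iff]
    constructor
    · intro h a
      have hle : b ≤ LinearMap.ker (LinearMap.toSpanSingleton A M m) := by
        rw [← hG]
        exact Submodule.span_le.2 fun c hc => congrFun h ⟨c, hc⟩
      exact hle a.2
    · intro h
      funext i
      exact h ⟨i, hG ▸ Submodule.subset_span i.2⟩
  have hexS := Module.Flat.lTensor_exact S hex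
  have hinj : Function.Injective (LinearMap.lTensor S v) := Module.Flat.lTensor_preserves_injective_linearMap v hv
  let e₁ : (κ →₀ S ⧸ b.map (algebraMap A S)) ≃ₗ[S] S ⊗[A] (κ →₀ A ⧸ b) :=
    (Finsupp.mapRange.linearEquiv (Algebra.TensorProduct.quotIdealMapEquivTensorQuot S b).toLinearEquiv).trans
      (TensorProduct.finsuppRight A S S (A ⧸ b) κ).symm
  refine ⟨κ, (v.baseChange S).comp e₁.toLinearMap, ?_, ?_⟩
  · exact hinj.comp e₁.injective
  · rw [LinearMap.range_comp, LinearEquiv.range, Submodule.map_top]
    ext y
    have hy : y ∈ LinearMap.range (v.baseChange S) ↔ LinearMap.lTensor S g y = 0 := (hexS y).symm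
    rw [hy, Submodule.mem_torsionBySet_iff]
    have hcomp : ∀ i, TensorProduct.piRight A A S (fun _ : ↥(G : Set A) => M) (LinearMap.lTensor S g y) i =
        algebraMap A S (i : A) • y := by
      intro i
      clear hy
      induction y using TensorProduct.induction_on with
      | zero => simp
      | tmul s m =>
        simp only [LinearMap.lTensor_tmul, TensorProduct.piRight_apply, TensorProduct.piRightHom_tmul, g,
          LinearMap.pi_apply, LinearMap.smul_apply, LinearMap.id_apply, algebraMap_smul]
        rw [TensorProduct.tmul_smul]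
      | add a c ha hc =>
        rw [map_add, map_add, Pi.add_apply, ha, hc, smul_add]
    constructor
    · intro h0 a
      have hle : b.map (algebraMap A S) ≤ LinearMap.ker (LinearMap.toSpanSingleton S (S ⊗[A] M) y) := by
        rw [← hG, Ideal.map_span, Ideal.span_le]
        rintro _ ⟨c, hc, rfl⟩
        show algebraMap A S c • y = 0
        rw [← hcomp ⟨c, hc⟩, h0, map_zero, Pi.zero_apply]
      exact hle a.2
    · intro h0
      refine (TensorProduct.piRight A A S fun _ : ↥(G : Set A) => M).injective ?_
      rw [map_zero]
      funext i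
      rw [hcomp i]
      exact h0 ⟨algebraMap A S i, Ideal.mem_map_of_mem _ (hG ▸ Submodule.subset_span i.2)⟩

variable {R : Type u} [CommRing R]

/-- A copy of `R` seen as an algebra through a ring endomorphism. -/
def Twist (_f : R →+* R) : Type u := R

instance (f : R →+* R) : CommRing (Twist f) := inferInstanceAs (CommRing R)

instance (f : R →+* R) : Algebra R (Twist f) := (show R →+* Twist f from f).toAlgebra

/-- The endomorphism step. -/
theorem torsionFreeOver_twist (f : R →+* R) (hf : f.Flat) {M : Type u} [AddCommGroup M] [Module R M]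
    (iso : (ModuleCat.extendScalars f).obj (ModuleCat.of R M) ≅ ModuleCat.of R M)
    {b : Ideal R} (hb : b.FG) (h : TorsionFreeOver b M) : TorsionFreeOver (b.map f) M := by
  haveI : Module.Flat R (Twist f) := hf
  have h1 := torsionFreeOver_baseChange (S := Twist f) hb h
  let e : ((ModuleCat.extendScalars f).obj (ModuleCat.of R M)) ≃ₗ[R] M := iso.toLinearEquiv
  exact torsionFreeOver_congr e h1

/-- The socle is free over the residue field. -/
theorem torsionFreeOver_maximal [IsLocalRing R] (M : Type u) [AddCommGroup M] [Module R M] :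
    TorsionFreeOver (IsLocalRing.maximalIdeal R) M := by
  classical
  letI : Field (R ⧸ IsLocalRing.maximalIdeal R) := Ideal.Quotient.field _
  let soc : Submodule R M := Submodule.torsionBySet R M (IsLocalRing.maximalIdeal R : Set R)
  let b := Module.Basis.ofVectorSpace (R ⧸ IsLocalRing.maximalIdeal R) ↥soc
  refine ⟨Module.Basis.ofVectorSpaceIndex (R ⧸ IsLocalRing.maximalIdeal R) ↥soc,
    soc.subtype.comp ((b.repr.symm.restrictScalars R).toLinearMap),
    Subtype.val_injective.comp b.repr.symm.injective, ?_⟩
  rw [LinearMap.range_comp, LinearEquiv.range, Submodule.map_subtype_top]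

end Groth.Agent.CAlgH3.TorInj
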